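import Mathlib
import Cfsg.Prelude.Def_ChevStructure
import Cfsg.Agent.Lib.Helper18.Pos
import Cfsg.Agent.Lib.Helper18.RTabG2

/-!
# Piece NORM of S1159: the diagonal subgroup of `G₂(K)` normalizes the positive unipotent
subgroup
-/

set_option autoImplicit false

namespace Cfsg.Agent.Lib.Helper29.ReeSpNORM

universe u

theorem main : ∀ (K : Type u) [Field K], ∀ h ∈ Cfsg.Lie.chevG2.diagonalSubgroup K,
    ∀ u ∈ Cfsg.Lie.chevG2.posUnipotent K, h * u * h⁻¹ ∈ Cfsg.Lie.chevG2.posUnipotent K :=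
  fun _ _ _ hh u hu =>
    ((Subgroup.mem_set_normalizer_iff.mp
      (Cfsg.Agent.Lib.Helper18.Pos.diag_le_normalizer_pos
        Cfsg.Agent.Lib.Helper18.RTabG2.afacts hh)) u).mp hu

end Cfsg.Agent.Lib.Helper29.ReeSpNORM
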