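import Mathlib

/-! Group-theoretic preliminaries for the piece PPR of S5293: the abelian group of automorphisms
of `R` that fix `P` elementwise and move every element by an element of `P`. -/

set_option autoImplicit false

namespace Cfsg.Agent.Lib.Helper29.FCPPRa

variable {Ω : Type*} [Group Ω]

/-- If `Q` and `Y` commute elementwise, the elements of `Q ⊔ Y` are the products `t q`. -/
theorem mem_sup_comm {Q Y : Subgroup Ω} (hc : ∀ t ∈ Q, ∀ q ∈ Y, t * q = q * t) {r : Ω}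
    (hr : r ∈ Q ⊔ Y) : ∃ t ∈ Q, ∃ q ∈ Y, r = t * q := by
  let M : Subgroup Ω :=
    { carrier := {y | ∃ t ∈ Q, ∃ q ∈ Y, y = t * q}
      one_mem' := ⟨1, Q.one_mem, 1, Y.one_mem, by simp⟩
      mul_mem' := by
        rintro _ _ ⟨t, ht, q, hq, rfl⟩ ⟨t', ht', q', hq', rfl⟩
        refine ⟨t * t', Q.mul_mem ht ht', q * q', Y.mul_mem hq hq', ?_⟩
        have e := hc t' ht' q hq
        calc t * q * (t' * q') = t * (q * t') * q' := by group
          _ = t * (t' * q) * q' := by rw [e]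
          _ = t * t' * (q * q') := by group
      inv_mem' := by
        rintro _ ⟨t, ht, q, hq, rfl⟩
        refine ⟨t⁻¹, Q.inv_mem ht, q⁻¹, Y.inv_mem hq, ?_⟩
        have e := hc t⁻¹ (Q.inv_mem ht) q⁻¹ (Y.inv_mem hq)
        rw [mul_inv_rev, e] }
  have hle : Q ⊔ Y ≤ M :=
    sup_le (fun t ht => ⟨t, ht, 1, Y.one_mem, by simp⟩)
      (fun q hq => ⟨1, Q.one_mem, q, hq, by simp⟩)
  exact hle hr

/-- The automorphisms of `R` fixing the elements of `P` and moving every element by an element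
of `P`. -/
def Msub (P R : Subgroup Ω) : Subgroup (MulAut R) where
  carrier := {β | (∀ x : R, (x : Ω) ∈ P → β x = x) ∧
    ∀ r : R, (r : Ω)⁻¹ * ((β r : R) : Ω) ∈ P}
  one_mem' := ⟨fun x _ => rfl, fun r => by
    show (r : Ω)⁻¹ * (r : Ω) ∈ P
    rw [inv_mul_cancel]; exact P.one_mem⟩
  mul_mem' := by
    rintro γ β ⟨hγ1, hγ2⟩ ⟨hβ1, hβ2⟩
    refine ⟨fun x hx => ?_, fun r => ?_⟩
    · show γ (β x) = x
      rw [hβ1 x hx, hγ1 x hx]
    · have h1 : γ (r⁻¹ * β r) = r⁻¹ * β r := hγ1 _ (hβ2 r)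
      have h2 : γ (β r) = γ r * (r⁻¹ * β r) := by
        have e : β r = r * (r⁻¹ * β r) := by group
        conv_lhs => rw [e]
        rw [map_mul, h1]
      show (r : Ω)⁻¹ * ((γ (β r) : R) : Ω) ∈ P
      rw [h2]
      have h3 : (r : Ω)⁻¹ * ((γ r * (r⁻¹ * β r) : R) : Ω) =
          ((r : Ω)⁻¹ * ((γ r : R) : Ω)) * ((r : Ω)⁻¹ * ((β r : R) : Ω)) := by
        simp only [Subgroup.coe_mul, Subgroup.coe_inv]
        group
      rw [h3]; exact P.mul_mem (hγ2 r) (hβ2 r)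
  inv_mem' := by
    rintro β ⟨hβ1, hβ2⟩
    refine ⟨fun x hx => ?_, fun r => ?_⟩
    · have := hβ1 x hx
      calc β⁻¹ x = β⁻¹ (β x) := by rw [this]
        _ = x := MulAut.inv_apply_self _ _ _
    · have h := hβ2 (β⁻¹ r)
      have e : β (β⁻¹ r) = r := MulAut.apply_inv_self _ _ _
      rw [e] at h
      have := P.inv_mem h
      rwa [mul_inv_rev, inv_inv] at this

theorem mem_Msub {P R : Subgroup Ω} {β : MulAut R} :
    β ∈ Msub P R ↔ (∀ x : R, (x : Ω) ∈ P → β x = x) ∧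
      ∀ r : R, (r : Ω)⁻¹ * ((β r : R) : Ω) ∈ P := Iff.rfl

/-- When `P` is normalized by `R`, the group `Msub P R` is abelian. -/
theorem Msub_comm {P R : Subgroup Ω}
    (hn : ∀ r x : R, (x : Ω) ∈ P → ((r * x * r⁻¹ : R) : Ω) ∈ P)
    {β γ : MulAut R} (hβ : β ∈ Msub P R) (hγ : γ ∈ Msub P R) : β * γ = γ * β := by
  obtain ⟨hβ1, hβ2⟩ := hβ
  obtain ⟨hγ1, hγ2⟩ := hγ
  have key : ∀ (δ : MulAut R), (∀ x : R, (x : Ω) ∈ P → δ x = x) → ∀ r x : R, (x : Ω) ∈ P →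
      (r⁻¹ * δ r) * x = x * (r⁻¹ * δ r) := by
    intro δ hδ r x hx
    have h1 : δ (r * x * r⁻¹) = r * x * r⁻¹ := hδ _ (hn r x hx)
    rw [map_mul, map_mul, map_inv, hδ x hx] at h1
    calc r⁻¹ * δ r * x = r⁻¹ * (δ r * x * (δ r)⁻¹) * δ r := by group
      _ = r⁻¹ * (r * x * r⁻¹) * δ r := by rw [h1]
      _ = x * (r⁻¹ * δ r) := by group
  refine MulEquiv.ext (fun r => ?_)
  show β (γ r) = γ (β r)
  have eβ : β (γ r) = β r * (r⁻¹ * γ r) := by
    have e : γ r = r * (r⁻¹ * γ r) := by group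
    conv_lhs => rw [e]
    rw [map_mul, hβ1 (r⁻¹ * γ r) (hγ2 r)]
  have eγ : γ (β r) = γ r * (r⁻¹ * β r) := by
    have e : β r = r * (r⁻¹ * β r) := by group
    conv_lhs => rw [e]
    rw [map_mul, hγ1 (r⁻¹ * β r) (hβ2 r)]
  have c : (r⁻¹ * β r) * (r⁻¹ * γ r) = (r⁻¹ * γ r) * (r⁻¹ * β r) :=
    key β hβ1 r (r⁻¹ * γ r) (hγ2 r)
  calc β (γ r) = r * ((r⁻¹ * β r) * (r⁻¹ * γ r)) := by rw [eβ]; group
    _ = r * ((r⁻¹ * γ r) * (r⁻¹ * β r)) := by rw [c]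
    _ = γ (β r) := by rw [eγ]; group

theorem Msub_pow {P R : Subgroup Ω} {β : MulAut R} (hβ : β ∈ Msub P R) (k : ℕ) (r : R) :
    (β ^ k) r = r * (r⁻¹ * β r) ^ k := by
  induction k with
  | zero => simp
  | succ k ih =>
    have hk : β ^ k ∈ Msub P R := (Msub P R).pow_mem hβ k
    have h1 : (β ^ k) (r⁻¹ * β r) = r⁻¹ * β r := hk.1 _ (hβ.2 r)
    have e : β r = r * (r⁻¹ * β r) := by group
    calc (β ^ (k + 1)) r = (β ^ k) (β r) := by rw [pow_succ]; rfl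
      _ = (β ^ k) (r * (r⁻¹ * β r)) := by rw [← e]
      _ = (β ^ k) r * (r⁻¹ * β r) := by rw [map_mul, h1]
      _ = r * (r⁻¹ * β r) ^ k * (r⁻¹ * β r) := by rw [ih]
      _ = r * (r⁻¹ * β r) ^ (k + 1) := by rw [pow_succ, mul_assoc]

/-- If the elements of `P` have exponent dividing `N`, so has `Msub P R`. -/
theorem Msub_pow_eq_one {P R : Subgroup Ω} {N : ℕ} (hN : ∀ x : R, (x : Ω) ∈ P → x ^ N = 1)
    {β : MulAut R} (hβ : β ∈ Msub P R) : β ^ N = 1 := by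
  refine MulEquiv.ext (fun r => ?_)
  rw [Msub_pow hβ, hN _ (hβ.2 r), mul_one]; rfl

/-- An automorphism of `R` fixing `P` elementwise normalizes `Msub P R`. -/
theorem Msub_conj {P R : Subgroup Ω} {c : MulAut R} (hc : ∀ x : R, (x : Ω) ∈ P → c x = x)
    {β : MulAut R} (hβ : β ∈ Msub P R) : c * β * c⁻¹ ∈ Msub P R := by
  have hci : ∀ x : R, (x : Ω) ∈ P → c⁻¹ x = x := fun x hx => by
    calc c⁻¹ x = c⁻¹ (c x) := by rw [hc x hx]
      _ = x := MulAut.inv_apply_self _ _ _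
  refine ⟨fun x hx => ?_, fun r => ?_⟩
  · show c (β (c⁻¹ x)) = x
    rw [hci x hx, hβ.1 x hx, hc x hx]
  · show (r : Ω)⁻¹ * ((c (β (c⁻¹ r)) : R) : Ω) ∈ P
    have h1 : c ((c⁻¹ r)⁻¹ * β (c⁻¹ r)) = (c⁻¹ r)⁻¹ * β (c⁻¹ r) := hc _ (hβ.2 _)
    have h2 : c (β (c⁻¹ r)) = r * ((c⁻¹ r)⁻¹ * β (c⁻¹ r)) := by
      have e : β (c⁻¹ r) = c⁻¹ r * ((c⁻¹ r)⁻¹ * β (c⁻¹ r)) := by group
      conv_lhs => rw [e]
      rw [map_mul, h1, MulAut.apply_inv_self]
    rw [h2]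
    have h3 : (r : Ω)⁻¹ * ((r * ((c⁻¹ r)⁻¹ * β (c⁻¹ r)) : R) : Ω) =
        (((c⁻¹ r)⁻¹ * β (c⁻¹ r) : R) : Ω) := by
      rw [Subgroup.coe_mul]; group
    rw [h3]; exact hβ.2 _

/-- An injective endomorphism of a finite subgroup, as an automorphism. -/
noncomputable def autOf {R : Subgroup Ω} [Finite R] (f : R →* Ω) (hf : Function.Injective f)
    (h : ∀ x, f x ∈ R) : MulAut R :=
  MulEquiv.ofBijective (f.codRestrict R h)
    (Finite.injective_iff_bijective.mp (fun _ _ hab => hf (congrArg Subtype.val hab)))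

theorem autOf_coe {R : Subgroup Ω} [Finite R] (f : R →* Ω) (hf : Function.Injective f)
    (h : ∀ x, f x ∈ R) (r : R) : ((autOf f hf h r : R) : Ω) = f r := rfl

end Cfsg.Agent.Lib.Helper29.FCPPRa
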