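import Mathlib
import Cfsg.Agent.Lib.Helper29.FCPPRa

/-! The group-theoretic core of the piece PPR of S5293: in the configuration `Setup`, the
automorphism `g = e⁻¹ a' e` differs from `a` by an element of `Msub P (P ⊔ Y)`, and an element
`ν` of that group conjugating `a` to `g` gives a map `e ∘ ν⁻¹` fixing `x⁻¹ α(x)`. -/

set_option autoImplicit false

namespace Cfsg.Agent.Lib.Helper29.FCPPRb

open Cfsg.Agent.Lib.Helper29.FCPPRa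

variable {Ω : Type*} [Group Ω]

/-- Inclusion of the left factor into a join. -/
abbrev iL (A B : Subgroup Ω) : A →* ↥(A ⊔ B) := Subgroup.inclusion le_sup_left

/-- Inclusion of the right factor into a join. -/
abbrev iR (A B : Subgroup Ω) : B →* ↥(A ⊔ B) := Subgroup.inclusion le_sup_right

theorem coe_iL (A B : Subgroup Ω) (x : A) : ((iL A B x : ↥(A ⊔ B)) : Ω) = x := rfl

theorem coe_iR (A B : Subgroup Ω) (x : B) : ((iR A B x : ↥(A ⊔ B)) : Ω) = x := rfl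

/-- The configuration: `P ≤ T`, `φ : P → T`, `Y` centralizes `T`, `a` (resp. `a'`) is the
identity on `P` (resp. `φ(P)`) and `α` on `Y`, and `e : P Y ≃ φ(P) Y` extends `φ` and moves
the elements of `Y` by elements of `φ(P)`. -/
structure Setup (T : Subgroup Ω) {P Y : Subgroup Ω} (φ : P →* Ω) (α : MulAut Y)
    (a : MulAut ↥(P ⊔ Y)) (a' : MulAut ↥(φ.range ⊔ Y))
    (e : ↥(P ⊔ Y) ≃* ↥(φ.range ⊔ Y)) : Prop where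
  hPT : P ≤ T
  hφT : ∀ x : P, φ x ∈ T
  hcomm : ∀ t ∈ T, ∀ q ∈ Y, t * q = q * t
  ha1 : ∀ r : ↥(P ⊔ Y), (r : Ω) ∈ T → a r = r
  ha2 : ∀ q : Y, ((a (iR P Y q) : ↥(P ⊔ Y)) : Ω) = ((α q : Y) : Ω)
  ha'1 : ∀ r : ↥(φ.range ⊔ Y), (r : Ω) ∈ T → a' r = r
  ha'2 : ∀ q : Y, ((a' (iR φ.range Y q) : ↥(φ.range ⊔ Y)) : Ω) = ((α q : Y) : Ω)
  he1 : ∀ (r : ↥(P ⊔ Y)) (hr : (r : Ω) ∈ P), ((e r : ↥(φ.range ⊔ Y)) : Ω) = φ ⟨r, hr⟩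
  he2 : ∀ q : Y, (q : Ω)⁻¹ * ((e (iR P Y q) : ↥(φ.range ⊔ Y)) : Ω) ∈ φ.range

namespace Setup

variable {T P Y : Subgroup Ω} {φ : P →* Ω} {α : MulAut Y} {a : MulAut ↥(P ⊔ Y)}
  {a' : MulAut ↥(φ.range ⊔ Y)} {e : ↥(P ⊔ Y) ≃* ↥(φ.range ⊔ Y)}

theorem range_le (h : Setup T φ α a a' e) : φ.range ≤ T := by
  rintro _ ⟨x, rfl⟩; exact h.hφT x

theorem he1' (h : Setup T φ α a a' e) (t : P) :
    ((e (iL P Y t) : ↥(φ.range ⊔ Y)) : Ω) = φ t :=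
  h.he1 (iL P Y t) t.2

/-- An element whose image under `e` lies in `φ(P)` lies in `P`. -/
theorem he3 (h : Setup T φ α a a' e) (u : ↥(P ⊔ Y))
    (hu : ((e u : ↥(φ.range ⊔ Y)) : Ω) ∈ φ.range) : (u : Ω) ∈ P := by
  obtain ⟨p', hp'⟩ := hu
  have h2 : e u = e (iL P Y p') := Subtype.ext (hp'.symm.trans (h.he1' p').symm)
  have h3 := e.injective h2
  rw [h3]; exact p'.2

theorem decomp (h : Setup T φ α a a' e) (s : ↥(P ⊔ Y)) :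
    ∃ (t : P) (q : Y), s = iL P Y t * iR P Y q := by
  obtain ⟨t, ht, q, hq, hs⟩ :=
    mem_sup_comm (fun t ht q hq => h.hcomm t (h.hPT ht) q hq) s.2
  exact ⟨⟨t, ht⟩, ⟨q, hq⟩, Subtype.ext hs⟩

theorem e_mul (h : Setup T φ α a a' e) (t : P) (q : Y) :
    ((e (iL P Y t * iR P Y q) : ↥(φ.range ⊔ Y)) : Ω) =
      φ t * ((q : Ω) * ((q : Ω)⁻¹ * ((e (iR P Y q) : ↥(φ.range ⊔ Y)) : Ω))) := by
  rw [map_mul, Subgroup.coe_mul, h.he1' t, mul_inv_cancel_left]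

theorem a'e_mul (h : Setup T φ α a a' e) (t : P) (q : Y) :
    ((a' (e (iL P Y t * iR P Y q)) : ↥(φ.range ⊔ Y)) : Ω) =
      φ t * (((α q : Y) : Ω) * ((q : Ω)⁻¹ * ((e (iR P Y q) : ↥(φ.range ⊔ Y)) : Ω))) := by
  have h1 : a' (e (iL P Y t)) = e (iL P Y t) :=
    h.ha'1 _ (by rw [h.he1' t]; exact h.hφT t)
  have h2 : a' ((iR φ.range Y q)⁻¹ * e (iR P Y q)) = (iR φ.range Y q)⁻¹ * e (iR P Y q) :=
    h.ha'1 _ (h.range_le (h.he2 q))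
  have h3 : e (iR P Y q) = iR φ.range Y q * ((iR φ.range Y q)⁻¹ * e (iR P Y q)) := by group
  rw [map_mul, map_mul, h1]
  conv_lhs => rw [h3]
  rw [map_mul, h2, Subgroup.coe_mul, Subgroup.coe_mul, h.he1' t, h.ha'2 q]
  rfl

theorem a_mul (h : Setup T φ α a a' e) (t : P) (q : Y) :
    a (iL P Y t * iR P Y q) = iL P Y t * iR P Y (α q) := by
  have h1 : a (iL P Y t) = iL P Y t := h.ha1 _ (h.hPT t.2)
  have h2 : a (iR P Y q) = iR P Y (α q) := Subtype.ext (h.ha2 q)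
  rw [map_mul, h1, h2]

/-- `a⁻¹ g` moves every element by an element of `P`. -/
theorem key (h : Setup T φ α a a' e) (g : MulAut ↥(P ⊔ Y)) (hg : ∀ s, e (g s) = a' (e s))
    (s : ↥(P ⊔ Y)) : (((a s)⁻¹ * g s : ↥(P ⊔ Y)) : Ω) ∈ P := by
  apply h.he3
  obtain ⟨t, q, rfl⟩ := h.decomp s
  have h1 : e ((a (iL P Y t * iR P Y q))⁻¹ * g (iL P Y t * iR P Y q)) =
      (e (a (iL P Y t * iR P Y q)))⁻¹ * a' (e (iL P Y t * iR P Y q)) := by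
    rw [map_mul, map_inv, hg]
  rw [h1, h.a_mul, Subgroup.coe_mul, Subgroup.coe_inv, h.e_mul, h.a'e_mul]
  have h2 : (φ t * (((α q : Y) : Ω) * (((α q : Y) : Ω)⁻¹ *
        ((e (iR P Y (α q)) : ↥(φ.range ⊔ Y)) : Ω))))⁻¹ *
      (φ t * (((α q : Y) : Ω) * ((q : Ω)⁻¹ * ((e (iR P Y q) : ↥(φ.range ⊔ Y)) : Ω)))) =
      (((α q : Y) : Ω)⁻¹ * ((e (iR P Y (α q)) : ↥(φ.range ⊔ Y)) : Ω))⁻¹ *
        ((q : Ω)⁻¹ * ((e (iR P Y q) : ↥(φ.range ⊔ Y)) : Ω)) := by group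
  rw [h2]
  exact φ.range.mul_mem (φ.range.inv_mem (h.he2 (α q))) (h.he2 q)

theorem g_mul_inv_mem (h : Setup T φ α a a' e) (g : MulAut ↥(P ⊔ Y))
    (hg : ∀ s, e (g s) = a' (e s)) : g * a⁻¹ ∈ Msub P (P ⊔ Y) := by
  refine ⟨fun x hx => ?_, fun r => ?_⟩
  · have hax : a x = x := h.ha1 x (h.hPT hx)
    have hai : a⁻¹ x = x := by
      calc a⁻¹ x = a⁻¹ (a x) := by rw [hax]
        _ = x := MulAut.inv_apply_self _ _ _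
    show g (a⁻¹ x) = x
    rw [hai]
    apply e.injective
    rw [hg]
    exact h.ha'1 _ (by rw [h.he1 x hx]; exact h.hφT _)
  · show (r : Ω)⁻¹ * ((g (a⁻¹ r) : ↥(P ⊔ Y)) : Ω) ∈ P
    have h1 := h.key g hg (a⁻¹ r)
    rw [MulAut.apply_inv_self] at h1
    exact h1

/-- The map `e ∘ ν⁻¹` fixes `x⁻¹ α(x)`. -/
theorem final (h : Setup T φ α a a' e) (g : MulAut ↥(P ⊔ Y)) (hg : ∀ s, e (g s) = a' (e s))
    (ν : MulAut ↥(P ⊔ Y)) (hν : ν ∈ Msub P (P ⊔ Y)) (hgν : g = ν⁻¹ * a * ν) (x : Y) :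
    ((e (ν⁻¹ ((iR P Y x)⁻¹ * iR P Y (α x))) : ↥(φ.range ⊔ Y)) : Ω) =
      (x : Ω)⁻¹ * ((α x : Y) : Ω) := by
  have hνi : ν⁻¹ ∈ Msub P (P ⊔ Y) := (Msub _ _).inv_mem hν
  have hint : ∀ s, a' (e (ν⁻¹ s)) = e (ν⁻¹ (a s)) := by
    intro s
    rw [← hg, hgν]
    show e (ν⁻¹ (a (ν (ν⁻¹ s)))) = _
    rw [MulAut.apply_inv_self]
  have hw : (((iR P Y x)⁻¹ * ν⁻¹ (iR P Y x) : ↥(P ⊔ Y)) : Ω) ∈ P := hνi.2 (iR P Y x)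
  have e1 : ν⁻¹ (iR P Y x) = iR P Y x * ((iR P Y x)⁻¹ * ν⁻¹ (iR P Y x)) := by group
  have hζ : (((iR φ.range Y x)⁻¹ * e (ν⁻¹ (iR P Y x)) : ↥(φ.range ⊔ Y)) : Ω) ∈ T := by
    have e2 : (((iR φ.range Y x)⁻¹ * e (ν⁻¹ (iR P Y x)) : ↥(φ.range ⊔ Y)) : Ω) =
        ((x : Ω)⁻¹ * ((e (iR P Y x) : ↥(φ.range ⊔ Y)) : Ω)) *
          ((e ((iR P Y x)⁻¹ * ν⁻¹ (iR P Y x)) : ↥(φ.range ⊔ Y)) : Ω) := by
      conv_lhs => rw [e1]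
      rw [map_mul, Subgroup.coe_mul, Subgroup.coe_mul, Subgroup.coe_inv, coe_iR, mul_assoc]
    rw [e2]
    exact T.mul_mem (h.range_le (h.he2 x)) (by rw [h.he1 _ hw]; exact h.hφT _)
  have hζ' : a' ((iR φ.range Y x)⁻¹ * e (ν⁻¹ (iR P Y x))) =
      (iR φ.range Y x)⁻¹ * e (ν⁻¹ (iR P Y x)) := h.ha'1 _ hζ
  have e3 : e (ν⁻¹ (iR P Y x)) =
      iR φ.range Y x * ((iR φ.range Y x)⁻¹ * e (ν⁻¹ (iR P Y x))) := by group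
  have e4 : a' (e (ν⁻¹ (iR P Y x))) =
      iR φ.range Y (α x) * ((iR φ.range Y x)⁻¹ * e (ν⁻¹ (iR P Y x))) := by
    conv_lhs => rw [e3]
    rw [map_mul, hζ']
    congr 1
    exact Subtype.ext (h.ha'2 x)
  have e5 : a (iR P Y x) = iR P Y (α x) := Subtype.ext (h.ha2 x)
  have e6 : e (ν⁻¹ (iR P Y (α x))) =
      iR φ.range Y (α x) * ((iR φ.range Y x)⁻¹ * e (ν⁻¹ (iR P Y x))) := by
    rw [← e5, ← hint, e4]
  have hyY : (x : Ω)⁻¹ * ((α x : Y) : Ω) ∈ Y := Y.mul_mem (Y.inv_mem x.2) (α x).2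
  have hc : (x : Ω)⁻¹ * ((e (ν⁻¹ (iR P Y x)) : ↥(φ.range ⊔ Y)) : Ω) *
      ((x : Ω)⁻¹ * ((α x : Y) : Ω)) =
      (x : Ω)⁻¹ * ((α x : Y) : Ω) *
        ((x : Ω)⁻¹ * ((e (ν⁻¹ (iR P Y x)) : ↥(φ.range ⊔ Y)) : Ω)) :=
    h.hcomm _ hζ _ hyY
  rw [map_mul, map_mul, map_inv, map_inv, e6]
  simp only [Subgroup.coe_mul, Subgroup.coe_inv, coe_iR]
  calc ((e (ν⁻¹ (iR P Y x)) : ↥(φ.range ⊔ Y)) : Ω)⁻¹ * (((α x : Y) : Ω) *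
        ((x : Ω)⁻¹ * ((e (ν⁻¹ (iR P Y x)) : ↥(φ.range ⊔ Y)) : Ω)))
      = ((e (ν⁻¹ (iR P Y x)) : ↥(φ.range ⊔ Y)) : Ω)⁻¹ * ((x : Ω) *
          ((x : Ω)⁻¹ * ((α x : Y) : Ω) *
            ((x : Ω)⁻¹ * ((e (ν⁻¹ (iR P Y x)) : ↥(φ.range ⊔ Y)) : Ω)))) := by group
    _ = ((e (ν⁻¹ (iR P Y x)) : ↥(φ.range ⊔ Y)) : Ω)⁻¹ * ((x : Ω) *
          ((x : Ω)⁻¹ * ((e (ν⁻¹ (iR P Y x)) : ↥(φ.range ⊔ Y)) : Ω) *
            ((x : Ω)⁻¹ * ((α x : Y) : Ω)))) := by rw [hc]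
    _ = (x : Ω)⁻¹ * ((α x : Y) : Ω) := by group

end Setup

end Cfsg.Agent.Lib.Helper29.FCPPRb
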