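import Mathlib
import Cfsg.Prelude.Def_FusionSystem
import Cfsg.Prelude.Def_FusionComponents
import Cfsg.Agent.H85.Basic
import Cfsg.Agent.H85.Aut
import Cfsg.Agent.H85.Sat
import Cfsg.Agent.Lib.Helper88.FCStmt
import Cfsg.Agent.Lib.Helper29.FCPPRa
import Cfsg.Agent.Lib.Helper29.FCPPRb

/-! Piece PPR of S5293: for an automorphism `α` of `Y ≤ C_S(T)` in `C_F(T)` of order prime to
`p`, the cyclic subgroup generated by `x⁻¹ α(x)` centralizes `E`. -/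

set_option autoImplicit false

namespace Cfsg.Agent.Lib.Helper29.FCPPR

open Cfsg Cfsg.FusionSystem Cfsg.Agent.Lib.Helper88.WNStmt Cfsg.Agent.Lib.Helper88.FCStmt
open Cfsg.Agent.Lib.Helper29.FCPPRa Cfsg.Agent.Lib.Helper29.FCPPRb

universe u

/-- For `Q ≤ T`, the automorphism of `Q Y` that is the identity on `Q` and `α` on `Y`. -/
theorem exists_aut {Ω : Type*} [Group Ω] {S : Subgroup Ω} [Finite S] (F : FusionSystem S)
    {T Y : Subgroup Ω} (hTS : T ≤ S) (hYC : Y ≤ centralizerIn S T) (α : MulAut Y)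
    (αh : ↥(Y ⊔ T) →* Ω) (hαh : αh ∈ F.Hom (Y ⊔ T))
    (hαhY : ∀ x : Y, αh (Subgroup.inclusion le_sup_left x) = α x)
    (hαhT : ∀ t : T, αh (Subgroup.inclusion le_sup_right t) = t) (m : ℕ) (hm : α ^ m = 1)
    (Q : Subgroup Ω) (hQ : Q ≤ T) :
    ∃ a : MulAut ↥(Q ⊔ Y), a ∈ F.autGroup (Q ⊔ Y) ∧
      (∀ r : ↥(Q ⊔ Y), (r : Ω) ∈ T → a r = r) ∧
      (∀ q : Y, ((a (iR Q Y q) : ↥(Q ⊔ Y)) : Ω) = ((α q : Y) : Ω)) ∧ a ^ m = 1 := by
  have hcomm : ∀ t ∈ Q, ∀ q ∈ Y, t * q = q * t := fun t ht q hq =>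
    (Subgroup.mem_centralizer_iff.mp (hYC hq).2) t (hQ ht)
  have hle : Q ⊔ Y ≤ Y ⊔ T := sup_le (hQ.trans le_sup_right) le_sup_left
  have hRS : Q ⊔ Y ≤ S := sup_le (hQ.trans hTS) (fun q hq => (hYC hq).1)
  have : Finite ↥(Q ⊔ Y) := H85.finite_of_le hRS
  have hfF : αh.comp (Subgroup.inclusion hle) ∈ F.Hom (Q ⊔ Y) := H85.restrict_mem F hαh hle
  have hfT : ∀ r : ↥(Q ⊔ Y), (r : Ω) ∈ T → αh (Subgroup.inclusion hle r) = r :=
    fun r hr => hαhT ⟨r, hr⟩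
  have hfY : ∀ q : Y, αh (Subgroup.inclusion hle (iR Q Y q)) = α q := fun q => hαhY q
  have hval : ∀ r : ↥(Q ⊔ Y), (αh.comp (Subgroup.inclusion hle)) r ∈ Q ⊔ Y := by
    intro r
    obtain ⟨t, ht, q, hq, hr⟩ := mem_sup_comm hcomm r.2
    have e : r = iL Q Y ⟨t, ht⟩ * iR Q Y ⟨q, hq⟩ := Subtype.ext hr
    show αh (Subgroup.inclusion hle r) ∈ Q ⊔ Y
    rw [e, map_mul, map_mul, hfT (iL Q Y ⟨t, ht⟩) (hQ ht), hfY]
    exact Subgroup.mul_mem _ (Subgroup.mem_sup_left ht)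
      (Subgroup.mem_sup_right (α ⟨q, hq⟩).2)
  obtain ⟨a, ha⟩ : ∃ a : MulAut ↥(Q ⊔ Y), ∀ r,
      ((a r : ↥(Q ⊔ Y)) : Ω) = αh (Subgroup.inclusion hle r) :=
    ⟨autOf _ (F.injective_of_mem hfF) hval, fun r => rfl⟩
  have h1 : ∀ r : ↥(Q ⊔ Y), (r : Ω) ∈ T → a r = r :=
    fun r hr => Subtype.ext ((ha r).trans (hfT r hr))
  have h2 : ∀ q : Y, a (iR Q Y q) = iR Q Y (α q) :=
    fun q => Subtype.ext ((ha _).trans (hfY q))
  refine ⟨a, ?_, h1, fun q => congrArg Subtype.val (h2 q), ?_⟩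
  · exact (H85.mem_autGroup_iff F hRS a).mpr (H85.hom_congr F hfF (fun r => ha r))
  · have p1 : ∀ (k : ℕ) (r : ↥(Q ⊔ Y)), (r : Ω) ∈ T → (a ^ k) r = r := by
      intro k
      induction k with
      | zero => intro r _; rfl
      | succ k ih =>
        intro r hr
        rw [pow_succ]
        show (a ^ k) (a r) = r
        rw [h1 r hr, ih r hr]
    have p2 : ∀ (k : ℕ) (q : Y), (a ^ k) (iR Q Y q) = iR Q Y ((α ^ k) q) := by
      intro k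
      induction k with
      | zero => intro q; rfl
      | succ k ih =>
        intro q
        rw [pow_succ, pow_succ]
        show (a ^ k) (a (iR Q Y q)) = iR Q Y ((α ^ k) (α q))
        rw [h2, ih]
    refine MulEquiv.ext (fun r => ?_)
    obtain ⟨t, ht, q, hq, hr⟩ := mem_sup_comm hcomm r.2
    have e : r = iL Q Y ⟨t, ht⟩ * iR Q Y ⟨q, hq⟩ := Subtype.ext hr
    rw [e, map_mul, p1 m (iL Q Y ⟨t, ht⟩) (hQ ht), p2, hm]
    rfl

theorem main (hGA : GoodAll.{u}) (hCC : CentCrit.{u}) (hCOP : CoprimeConj.{u}) :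
    PPrimeCentral.{u} := by
  intro Ω _ S _ p _ hS F hF T E hE Y _ α hα m hm hαm x
  obtain ⟨-, hYC, -, αh, hαh, hαhY, hαhT⟩ := hα
  have hTS : T ≤ S := hE.1.2.2.2.1.1
  have hcomm : ∀ t ∈ T, ∀ q ∈ Y, t * q = q * t := fun t ht q hq =>
    (Subgroup.mem_centralizer_iff.mp (hYC hq).2) t ht
  have hYS : Y ≤ S := fun q hq => (hYC hq).1
  have hyY : (x : Ω)⁻¹ * ((α x : Y) : Ω) ∈ Y := Y.mul_mem (Y.inv_mem x.2) (α x).2
  have hXY : Subgroup.zpowers ((x : Ω)⁻¹ * ((α x : Y) : Ω)) ≤ Y :=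
    (Subgroup.zpowers_le).mpr hyY
  refine hCC p hS F hF E hE _ (hXY.trans hYC) ?_
  intro P hP φ hφ
  have hPT : P ≤ T := (E.le_of_mem hφ).1
  have hφT : ∀ x : P, φ x ∈ T := (E.le_of_mem hφ).2
  have hNT : φ.range ≤ T := by
    rintro _ ⟨x, rfl⟩; exact hφT x
  obtain ⟨φh, hφh, hφhP, hφhC⟩ := hGA p hS F hF E hE P hP φ hφ
  have hRS : P ⊔ Y ≤ S := sup_le (hPT.trans hTS) hYS
  have hR'S : φ.range ⊔ Y ≤ S := sup_le (hNT.trans hTS) hYS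
  have hcommP : ∀ t ∈ P, ∀ q ∈ Y, t * q = q * t := fun t ht q hq => hcomm t (hPT ht) q hq
  -- the automorphisms `a` and `a'`
  obtain ⟨a, haF, ha1, ha2, ham⟩ :=
    exists_aut F hTS hYC α αh hαh hαhY hαhT m hαm P hPT
  obtain ⟨a', ha'F, ha'1, ha'2, ha'm⟩ :=
    exists_aut F hTS hYC α αh hαh hαhY hαhT m hαm φ.range hNT
  -- the isomorphism `e`
  have hRle : P ⊔ Y ≤ P ⊔ centralizerIn S T := sup_le_sup_left hYC P
  have heF : φh.comp (Subgroup.inclusion hRle) ∈ F.Hom (P ⊔ Y) := H85.restrict_mem F hφh hRle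
  have heP : ∀ (r : ↥(P ⊔ Y)) (hr : (r : Ω) ∈ P),
      φh (Subgroup.inclusion hRle r) = φ ⟨r, hr⟩ := fun r hr => hφhP ⟨r, hr⟩
  have heY : ∀ q : Y, (q : Ω)⁻¹ * φh (Subgroup.inclusion hRle (iR P Y q)) ∈ φ.range := by
    intro q
    have hzT : (q : Ω)⁻¹ * φh (Subgroup.inclusion hRle (iR P Y q)) ∈ T :=
      hφhC (Subgroup.inclusion hRle (iR P Y q)) (hYC q.2)
    refine hP.2 φ.range ⟨φ, hφ, rfl⟩ ⟨hzT, Subgroup.mem_centralizer_iff.mpr ?_⟩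
    rintro _ ⟨t, rfl⟩
    have h1 : φ t * (q : Ω) = (q : Ω) * φ t := hcomm _ (hφT t) _ q.2
    have h2 : φh (Subgroup.inclusion hRle (iL P Y t)) = φ t := heP (iL P Y t) t.2
    have h3 : iL P Y t * iR P Y q = iR P Y q * iL P Y t :=
      Subtype.ext (hcomm _ (hPT t.2) _ q.2)
    have h4 : φ t * φh (Subgroup.inclusion hRle (iR P Y q)) =
        φh (Subgroup.inclusion hRle (iR P Y q)) * φ t := by
      have := congrArg (fun z => φh (Subgroup.inclusion hRle z)) h3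
      simp only [map_mul] at this
      rw [h2] at this
      exact this
    calc φ t * ((q : Ω)⁻¹ * φh (Subgroup.inclusion hRle (iR P Y q)))
        = (q : Ω)⁻¹ * ((q : Ω) * φ t) * (q : Ω)⁻¹ *
            φh (Subgroup.inclusion hRle (iR P Y q)) := by group
      _ = (q : Ω)⁻¹ * (φ t * (q : Ω)) * (q : Ω)⁻¹ *
            φh (Subgroup.inclusion hRle (iR P Y q)) := by rw [h1]
      _ = (q : Ω)⁻¹ * (φ t * φh (Subgroup.inclusion hRle (iR P Y q))) := by group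
      _ = (q : Ω)⁻¹ * (φh (Subgroup.inclusion hRle (iR P Y q)) * φ t) := by rw [h4]
      _ = (q : Ω)⁻¹ * φh (Subgroup.inclusion hRle (iR P Y q)) * φ t := by group
  have heval : ∀ r : ↥(P ⊔ Y), (φh.comp (Subgroup.inclusion hRle)) r ∈ φ.range ⊔ Y := by
    intro r
    obtain ⟨t, ht, q, hq, hr⟩ := mem_sup_comm hcommP r.2
    have e : r = iL P Y ⟨t, ht⟩ * iR P Y ⟨q, hq⟩ := Subtype.ext hr
    show φh (Subgroup.inclusion hRle r) ∈ φ.range ⊔ Y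
    rw [e, map_mul, map_mul, heP (iL P Y ⟨t, ht⟩) ht]
    have h1 : φh (Subgroup.inclusion hRle (iR P Y ⟨q, hq⟩)) =
        q * (q⁻¹ * φh (Subgroup.inclusion hRle (iR P Y ⟨q, hq⟩))) := by group
    rw [h1]
    exact Subgroup.mul_mem _ (Subgroup.mem_sup_left (MonoidHom.mem_range.mpr ⟨_, rfl⟩))
      (Subgroup.mul_mem _ (Subgroup.mem_sup_right hq) (Subgroup.mem_sup_left (heY ⟨q, hq⟩)))
  have hrange : (φh.comp (Subgroup.inclusion hRle)).range = φ.range ⊔ Y := by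
    apply le_antisymm
    · rintro _ ⟨r, rfl⟩
      exact heval r
    · refine sup_le ?_ ?_
      · rintro _ ⟨t, rfl⟩
        exact ⟨iL P Y t, heP (iL P Y t) t.2⟩
      · intro q hq
        obtain ⟨t, ht⟩ := heY ⟨q, hq⟩
        refine ⟨iR P Y ⟨q, hq⟩ * iL P Y t⁻¹, ?_⟩
        show φh (Subgroup.inclusion hRle (iR P Y ⟨q, hq⟩ * iL P Y t⁻¹)) = q
        rw [map_mul, map_mul, heP (iL P Y t⁻¹) (t⁻¹).2]
        have h1 : φ ⟨((iL P Y t⁻¹ : ↥(P ⊔ Y)) : Ω), (t⁻¹).2⟩ = (φ t)⁻¹ := map_inv φ t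
        have h2 : φ t = q⁻¹ * φh (Subgroup.inclusion hRle (iR P Y ⟨q, hq⟩)) := ht
        rw [h1, h2]
        group
  obtain ⟨e, he, heIso⟩ : ∃ e : ↥(P ⊔ Y) ≃* ↥(φ.range ⊔ Y),
      (∀ r, ((e r : ↥(φ.range ⊔ Y)) : Ω) = φh (Subgroup.inclusion hRle r)) ∧ H85.IsIso F e :=
    ⟨H85.isoOf F heF hrange, fun r => rfl, H85.isIso_isoOf F heF hrange⟩
  -- the automorphism `g = e⁻¹ a' e`
  obtain ⟨g, hg, hgm, hgF⟩ : ∃ g : MulAut ↥(P ⊔ Y), (∀ s, e (g s) = a' (e s)) ∧ g ^ m = 1 ∧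
      g ∈ F.autGroup (P ⊔ Y) :=
    ⟨MulAut.congr e.symm a', fun s => e.apply_symm_apply _,
      by rw [← map_pow, ha'm, map_one],
      H85.congr_mem_autGroup F (H85.isIso_symm F heIso) ha'F⟩
  have hsetup : Setup T φ α a a' e :=
    ⟨hPT, hφT, hcomm, ha1, ha2, ha'1, ha'2, fun r hr => (he r).trans (heP r hr),
      fun q => by rw [he]; exact heY q⟩
  -- the abelian group `M`
  obtain ⟨n, hn⟩ := hS.exists_card_eq
  have hexp : ∀ x : ↥(P ⊔ Y), (x : Ω) ∈ P → x ^ (p ^ n) = 1 := by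
    intro x _
    have h1 : (⟨x, hRS x.2⟩ : S) ^ Nat.card S = 1 := pow_card_eq_one'
    rw [hn] at h1
    apply Subtype.ext
    have h2 := congrArg Subtype.val h1
    simpa using h2
  have hnorm : ∀ r x : ↥(P ⊔ Y), (x : Ω) ∈ P → ((r * x * r⁻¹ : ↥(P ⊔ Y)) : Ω) ∈ P := by
    intro r x hx
    obtain ⟨t, ht, q, hq, hr⟩ := mem_sup_comm hcommP r.2
    have h1 : q * (x : Ω) = (x : Ω) * q := (hcommP x hx q hq).symm
    have h2 : ((r * x * r⁻¹ : ↥(P ⊔ Y)) : Ω) = t * (x : Ω) * t⁻¹ := by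
      simp only [Subgroup.coe_mul, Subgroup.coe_inv]
      rw [hr]
      calc t * q * (x : Ω) * (t * q)⁻¹ = t * (q * (x : Ω)) * q⁻¹ * t⁻¹ := by group
        _ = t * ((x : Ω) * q) * q⁻¹ * t⁻¹ := by rw [h1]
        _ = t * (x : Ω) * t⁻¹ := by group
    rw [h2]
    exact P.mul_mem (P.mul_mem ht hx) (P.inv_mem ht)
  obtain ⟨ν, hνM, hνcl, hgν⟩ := hCOP p n m hm (Msub P (P ⊔ Y))
    (fun β hβ γ hγ => Msub_comm hnorm hβ hγ) (fun β hβ => Msub_pow_eq_one hexp hβ) a g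
    (fun β hβ => Msub_conj (fun x hx => ha1 x (hPT hx)) hβ) ham hgm
    (hsetup.g_mul_inv_mem g hg)
  have hνF : ν ∈ F.autGroup (P ⊔ Y) := by
    refine (Subgroup.closure_le _).mpr ?_ hνcl
    rintro _ (rfl | rfl)
    · exact haF
    · exact hgF
  have hνi : ν⁻¹ ∈ Msub P (P ⊔ Y) := (Msub _ _).inv_mem hνM
  have hνiF : (P ⊔ Y).subtype.comp (ν⁻¹ : MulAut ↥(P ⊔ Y)).toMonoidHom ∈ F.Hom (P ⊔ Y) :=
    (H85.mem_autGroup_iff F hRS ν⁻¹).mp (Subgroup.inv_mem _ hνF)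
  -- the map `ψ₀ = e ∘ ν⁻¹`
  have hψ0F : (φh.comp (Subgroup.inclusion hRle)).comp (ν⁻¹ : MulAut ↥(P ⊔ Y)).toMonoidHom ∈
      F.Hom (P ⊔ Y) :=
    H85.comp_mem' F hνiF heF (fun r => (ν⁻¹ r).2) (fun r => rfl)
  have hy0 : φh (Subgroup.inclusion hRle (ν⁻¹ ((iR P Y x)⁻¹ * iR P Y (α x)))) =
      (x : Ω)⁻¹ * ((α x : Y) : Ω) :=
    (he _).symm.trans (hsetup.final g hg ν hνM hgν x)
  have hXR : P ⊔ Subgroup.zpowers ((x : Ω)⁻¹ * ((α x : Y) : Ω)) ≤ P ⊔ Y :=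
    sup_le_sup_left hXY P
  refine ⟨_, H85.restrict_mem F hψ0F hXR, fun t => ?_, fun w => ?_⟩
  · show φh (Subgroup.inclusion hRle (ν⁻¹ (iL P Y t))) = φ t
    rw [hνi.1 (iL P Y t) t.2]
    exact heP (iL P Y t) t.2
  · obtain ⟨k, hk⟩ := Subgroup.mem_zpowers_iff.mp w.2
    have e1 : Subgroup.inclusion hXR (Subgroup.inclusion le_sup_right w) =
        ((iR P Y x)⁻¹ * iR P Y (α x)) ^ k := by
      apply Subtype.ext
      rw [Subgroup.coe_zpow]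
      exact hk.symm
    show φh (Subgroup.inclusion hRle (ν⁻¹ (Subgroup.inclusion hXR
      (Subgroup.inclusion le_sup_right w)))) = w
    rw [e1, map_zpow, map_zpow, map_zpow, hy0, hk]

end Cfsg.Agent.Lib.Helper29.FCPPR
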