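import Mathlib
import Cfsg.Agent.Lib.Helper80.FTStmt
import Cfsg.Agent.Lib.Helper38.SLCard

/-!
# S3999 / SL15 (second seat): `|SL(2,5)| = 120` and no element of order `15`.
-/

set_option autoImplicit false

namespace Cfsg.Agent.Lib.Helper29.FTSL15

open Matrix

/-- Entrywise check over the 625 matrices of `M₂(𝔽₅)`. -/
theorem pow_check : ∀ a b c d : ZMod 5,
    (!![a, b; c, d] : Matrix (Fin 2) (Fin 2) (ZMod 5)) ^ 15 = 1 →
      (!![a, b; c, d] : Matrix (Fin 2) (Fin 2) (ZMod 5)) ^ 3 = 1 ∨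
      (!![a, b; c, d] : Matrix (Fin 2) (Fin 2) (ZMod 5)) ^ 5 = 1 := by
  decide +kernel

theorem no15 (s : Matrix.SpecialLinearGroup (Fin 2) (ZMod 5)) : orderOf s ≠ 15 := by
  intro h
  have h15 : s ^ 15 = 1 := by rw [← h]; exact pow_orderOf_eq_one s
  have h15' : (s : Matrix (Fin 2) (Fin 2) (ZMod 5)) ^ 15 = 1 := by
    have := congrArg (fun t : Matrix.SpecialLinearGroup (Fin 2) (ZMod 5) =>
      (t : Matrix (Fin 2) (Fin 2) (ZMod 5))) h15
    simpa using this
  have heta := Matrix.eta_fin_two (s : Matrix (Fin 2) (Fin 2) (ZMod 5))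
  rw [heta] at h15'
  rcases pow_check _ _ _ _ h15' with h3 | h5
  · rw [← heta] at h3
    have h3' : s ^ 3 = 1 := by
      apply Subtype.ext
      simpa using h3
    have := orderOf_dvd_of_pow_eq_one h3'
    rw [h] at this
    omega
  · rw [← heta] at h5
    have h5' : s ^ 5 = 1 := by
      apply Subtype.ext
      simpa using h5
    have := orderOf_dvd_of_pow_eq_one h5'
    rw [h] at this
    omega

theorem card120 : Nat.card (Matrix.SpecialLinearGroup (Fin 2) (ZMod 5)) = 120 := by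
  have : Fact (Nat.Prime 5) := ⟨by norm_num⟩
  have h := Cfsg.Agent.Lib.Helper38.SLCard.card_SL2 (F := ZMod 5)
  rw [ZMod.card 5] at h
  exact h

theorem main : Cfsg.Agent.Lib.Helper80.FTStmt.SL15 := ⟨card120, no15⟩

end Cfsg.Agent.Lib.Helper29.FTSL15
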