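import Mathlib
import Cfsg.Agent.Lib.Helper11.TMTWOMINUSG
import Cfsg.Agent.Lib.Helper11.TPCANCEL
import Cfsg.Agent.Lib.Helper94.OPStmt

/-!
# S5974 helper (helper29): minus ⊥ minus = plus, all characteristics

`two_minus_sub`: the abstract `Helper11.TMTWOMINUSG.two_minus_all` with the totally singular
subspace located inside `A ⊔ B`.  `main`: for the standard plus form, the orthogonal sum of two
nondegenerate even-dimensional subspaces that are not of plus type is of plus type.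
-/

set_option autoImplicit false

universe u

namespace Cfsg.Agent.Lib.Helper29.HPTWOMINUS

open Module QuadraticMap
open Cfsg.Agent.Lib.Helper44.QSpace
open Cfsg.Agent.Lib.Helper94.OPStmt (P NDegP)

section abs

variable {F : Type*} [Field F] [Fintype F] {V : Type u} [AddCommGroup V] [Module F V]
  [FiniteDimensional F V]

theorem two_minus_sub (Q : QuadraticForm F V) (A B : Submodule F V)
    (hA : ∀ a ∈ A, (∀ x ∈ A, polar Q a x = 0) → a = 0)
    (hB : ∀ b ∈ B, (∀ x ∈ B, polar Q b x = 0) → b = 0)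
    (hAB : ∀ u ∈ A, ∀ v ∈ B, polar Q u v = 0)
    (e f : ℕ) (hAe : finrank F A = 2 * e) (hBf : finrank F B = 2 * f) :
    (∃ U : Submodule F V, U ≤ A ∧ (∀ u ∈ U, Q u = 0) ∧ finrank F U = e) ∨
    (∃ U : Submodule F V, U ≤ B ∧ (∀ u ∈ U, Q u = 0) ∧ finrank F U = f) ∨
    (∃ T : Submodule F V, T ≤ A ⊔ B ∧ (∀ u ∈ T, Q u = 0) ∧ finrank F T = e + f) := by
  have hAX : A ≤ A ⊔ B := le_sup_left
  have hBX : B ≤ A ⊔ B := le_sup_right
  have hSepA : Sep (res (res Q (A ⊔ B)) (A.comap (A ⊔ B).subtype)) := by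
    intro x hx
    have hxA : (((x : ↥(A.comap (A ⊔ B).subtype)) : ↥(A ⊔ B)) : V) ∈ A := x.2
    have h0 : (((x : ↥(A.comap (A ⊔ B).subtype)) : ↥(A ⊔ B)) : V) = 0 := by
      apply hA _ hxA
      intro y hy
      exact hx ⟨⟨y, hAX hy⟩, hy⟩
    exact Subtype.ext (Subtype.ext h0)
  have hSepB : Sep (res (res Q (A ⊔ B)) (B.comap (A ⊔ B).subtype)) := by
    intro x hx
    have hxB : (((x : ↥(B.comap (A ⊔ B).subtype)) : ↥(A ⊔ B)) : V) ∈ B := x.2
    have h0 : (((x : ↥(B.comap (A ⊔ B).subtype)) : ↥(A ⊔ B)) : V) = 0 := by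
      apply hB _ hxB
      intro y hy
      exact hx ⟨⟨y, hBX hy⟩, hy⟩
    exact Subtype.ext (Subtype.ext h0)
  have hAB' : ∀ u ∈ A.comap (A ⊔ B).subtype, ∀ v ∈ B.comap (A ⊔ B).subtype,
      polar (res Q (A ⊔ B)) u v = 0 := by
    intro u hu v hv
    exact hAB _ hu _ hv
  have hinf : A.comap (A ⊔ B).subtype ⊓ B.comap (A ⊔ B).subtype = ⊥ := by
    rw [eq_bot_iff]
    rintro x ⟨hxA, hxB⟩
    rw [Submodule.mem_bot]
    have h0 : (x : V) = 0 := by
      apply hA _ hxA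
      intro y hy
      rw [polar_comm]
      exact hAB y hy _ hxB
    exact Subtype.ext h0
  have hfA : finrank F ↥(A.comap (A ⊔ B).subtype) = 2 * e := by
    rw [← hAe]
    exact (Submodule.comapSubtypeEquivOfLe hAX).finrank_eq
  have hfB : finrank F ↥(B.comap (A ⊔ B).subtype) = 2 * f := by
    rw [← hBf]
    exact (Submodule.comapSubtypeEquivOfLe hBX).finrank_eq
  rcases Cfsg.Agent.Lib.Helper11.TMTWOMINUSG.two_minus_all (res Q (A ⊔ B))
      (A.comap (A ⊔ B).subtype) (B.comap (A ⊔ B).subtype) hSepA hSepB hAB' hinf e f hfA hfB with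
    ⟨U, hU, hUts, hUd⟩ | ⟨U, hU, hUts, hUd⟩ | ⟨T, hTts, hTd⟩
  · left
    refine ⟨U.map (A ⊔ B).subtype, ?_, ?_, ?_⟩
    · rintro _ ⟨u, hu, rfl⟩
      exact hU hu
    · rintro _ ⟨u, hu, rfl⟩
      exact hUts u hu
    · rw [Submodule.finrank_map_subtype_eq]
      exact hUd
  · right; left
    refine ⟨U.map (A ⊔ B).subtype, ?_, ?_, ?_⟩
    · rintro _ ⟨u, hu, rfl⟩
      exact hU hu
    · rintro _ ⟨u, hu, rfl⟩
      exact hUts u hu
    · rw [Submodule.finrank_map_subtype_eq]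
      exact hUd
  · right; right
    refine ⟨T.map (A ⊔ B).subtype, Submodule.map_subtype_le _ _, ?_, ?_⟩
    · rintro _ ⟨u, hu, rfl⟩
      exact hTts u hu
    · rw [Submodule.finrank_map_subtype_eq]
      exact hTd

end abs

/-- minus ⊥ minus = plus for the standard plus form -/
theorem main (F : Type u) [Field F] [Fintype F] (d : ℕ) (A B : Submodule F (P d → F))
    (hA : NDegP d F A) (hB : NDegP d F B)
    (hAB : ∀ u ∈ A, ∀ v ∈ B, QuadraticMap.polar (Cfsg.quadFormPlus d F) u v = 0)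
    (hAe : Even (finrank F ↥A)) (hBe : Even (finrank F ↥B))
    (hnA : ¬ Cfsg.Geo.IsPlusTypeOn (Cfsg.quadFormPlus d F) A)
    (hnB : ¬ Cfsg.Geo.IsPlusTypeOn (Cfsg.quadFormPlus d F) B) :
    Cfsg.Geo.IsPlusTypeOn (Cfsg.quadFormPlus d F) (A ⊔ B) := by
  obtain ⟨e, he⟩ := hAe
  obtain ⟨f, hf⟩ := hBe
  have hinf : A ⊓ B = ⊥ := by
    rw [eq_bot_iff]
    rintro x ⟨hxA, hxB⟩
    rw [Submodule.mem_bot]
    by_contra hne
    obtain ⟨⟨y, hy, hy'⟩, -⟩ := hA x hxA hne
    exact hy' (hAB y hy x hxB)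
  have hdim : finrank F ↥(A ⊔ B) = finrank F ↥A + finrank F ↥B := by
    have := Submodule.finrank_sup_add_finrank_inf_eq A B
    rw [hinf, finrank_bot] at this
    omega
  rcases two_minus_sub (Cfsg.Agent.Lib.Helper11.TPCANCEL.plusForm d F) A B
      (fun a ha h => by
        by_contra hne
        obtain ⟨-, ⟨x, hx, hx'⟩⟩ := hA a ha hne
        exact hx' (h x hx))
      (fun b hb h => by
        by_contra hne
        obtain ⟨-, ⟨x, hx, hx'⟩⟩ := hB b hb hne
        exact hx' (h x hx))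
      hAB e f (he.trans (two_mul e).symm) (hf.trans (two_mul f).symm) with
    ⟨U, hU, hUts, hUd⟩ | ⟨U, hU, hUts, hUd⟩ | ⟨T, hT, hTts, hTd⟩
  · refine absurd ⟨U, hU, hUts, ?_⟩ hnA
    have h1 : 2 * finrank F ↥U = finrank F ↥A := by
      rw [he, two_mul]
      exact congrArg₂ (· + ·) hUd hUd
    exact h1
  · refine absurd ⟨U, hU, hUts, ?_⟩ hnB
    have h1 : 2 * finrank F ↥U = finrank F ↥B := by
      rw [hf, two_mul]
      exact congrArg₂ (· + ·) hUd hUd
    exact h1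
  · refine ⟨T, hT, hTts, ?_⟩
    have h1 : 2 * finrank F ↥T = finrank F ↥(A ⊔ B) := by
      rw [hdim, he, hf, two_mul]
      have h2 : finrank F ↥T = e + f := hTd
      rw [h2]
      ring
    exact h1

end Cfsg.Agent.Lib.Helper29.HPTWOMINUS
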