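import Mathlib
import Cfsg.Agent.Lib.Helper26.J3Stmt

/-!
# S3366 / COORD (call by helper26; second seat)

The normal form `ι u * z ^ c * κ A` is a bijection `V × ZMod 3 × SL → X`.
-/

set_option autoImplicit false

universe u

namespace Cfsg.Agent.Lib.Helper29.J3COORD

open Cfsg.Agent.Lib.Helper26.J3Stmt

theorem main : COORD.{u} := by
  intro X _ hH hZ t K ι z κ hT hS hFr hκi hκK hκι
  obtain ⟨hcardZ, hZR, hcomm, hcen, hZc⟩ := hZ
  obtain ⟨hKt, hKR, hKc⟩ := hS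
  obtain ⟨hιR, hιt, hzZ, hz1, hex, huniq, hlaw⟩ := hFr
  obtain ⟨hfin, -, hR27, -, ⟨e⟩, -, -⟩ := hH
  have hzc : ∀ x : X, x * z = z * x := hZc z hzZ
  have hz3 : z ^ 3 = 1 := by
    have h : (⟨z, hzZ⟩ : Zc X) ^ 3 = 1 := by
      rw [← hcardZ]
      exact pow_card_eq_one'
    exact congrArg Subtype.val h
  have hzR : ∀ n : ℕ, z ^ n ∈ R X := fun n => (R X).pow_mem (hZR hzZ) n
  refine ⟨ι, z, κ, ?_, hz3, hzc, hlaw, hκι⟩
  have hinj : Function.Injective
      (fun p : V × ZMod 3 × SL => ι p.1 * z ^ p.2.1.val * κ p.2.2) := by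
    rintro ⟨u, c, A⟩ ⟨u', c', A'⟩ h
    simp only at h
    have hr : ι u * z ^ c.val ∈ R X := (R X).mul_mem (hιR u) (hzR _)
    have hr' : ι u' * z ^ c'.val ∈ R X := (R X).mul_mem (hιR u') (hzR _)
    have h1 : (ι u' * z ^ c'.val)⁻¹ * (ι u * z ^ c.val) = κ A' * (κ A)⁻¹ := by
      rw [inv_mul_eq_iff_eq_mul, ← mul_assoc, eq_mul_inv_iff_mul_eq]
      exact h
    have h2 : κ A' * (κ A)⁻¹ ∈ K ⊓ R X := by
      refine ⟨K.mul_mem (hκK A') (K.inv_mem (hκK A)), ?_⟩
      rw [← h1]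
      exact (R X).mul_mem ((R X).inv_mem hr') hr
    rw [hKR, Subgroup.mem_bot] at h2
    have h3 : κ A' = κ A := mul_inv_eq_one.mp h2
    have hA : A' = A := hκi h3
    subst hA
    have h4 : ι u * z ^ c.val = ι u' * z ^ c'.val := mul_right_cancel h
    obtain ⟨h5, h6⟩ := huniq u u' c c' h4
    rw [h5, h6]
  have hcard : Nat.card X ≤ Nat.card (V × ZMod 3 × SL) := by
    have h1 : Nat.card X = Nat.card (X ⧸ R X) * Nat.card (R X) :=
      Subgroup.card_eq_card_quotient_mul_card_subgroup (R X)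
    have h2 : Nat.card (X ⧸ R X) = Nat.card SL := Nat.card_congr e.toEquiv
    have h3 : Nat.card V = 9 := by
      rw [Nat.card_eq_fintype_card, Fintype.card_fun, ZMod.card, Fintype.card_fin]
      norm_num
    have h4 : Nat.card (ZMod 3) = 3 := by
      rw [Nat.card_eq_fintype_card, ZMod.card]
    rw [h1, h2, hR27, Nat.card_prod, Nat.card_prod, h3, h4]
    omega
  exact hinj.bijective_of_nat_card_le hcard

end Cfsg.Agent.Lib.Helper29.J3COORD
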