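import Mathlib
import Cfsg.Agent.Lib.Helper7.ReeSolvStmt

/-!
# Piece NCONJ of S2361
-/

set_option autoImplicit false

namespace Cfsg.Agent.Lib.Helper29.RSNCONJ

open Cfsg.Agent.Lib.Helper7.ReeSolvStmt Cfsg.Agent.Lib.Helper18.ReeHallStmt

universe u

theorem main : NConj.{u} := by
  intro G _ _ a b d hN hda hd hC M hMc hMd
  obtain ⟨A0, hA0c, hA0a, -, hA0n⟩ := hN
  have ha0 : a ≠ 0 := by
    rw [← hA0a]
    exact Nat.card_pos.ne'
  -- a subgroup of order `d` inside `A0`
  obtain ⟨g, hg⟩ := hA0c.exists_generator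
  have hgo : orderOf g = a := by
    rw [orderOf_eq_card_of_forall_mem_zpowers hg, hA0a]
  obtain ⟨e, he⟩ := hda
  have he0 : e ≠ 0 := by
    rintro rfl
    rw [mul_zero] at he
    exact ha0 he
  have hd0 : d ≠ 0 := by omega
  have hho : orderOf (g ^ e) = d := by
    rw [orderOf_pow_of_dvd he0 (by rw [hgo, he]; exact dvd_mul_left e d), hgo, he,
      Nat.mul_div_cancel _ (Nat.pos_of_ne_zero he0)]
  have hho' : orderOf ((g ^ e : ↥A0) : G) = d := by
    rw [Subgroup.orderOf_coe, hho]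
  have hM1le : Subgroup.zpowers ((g ^ e : ↥A0) : G) ≤ A0 :=
    Subgroup.zpowers_le.mpr (g ^ e).2
  have hM1card : Nat.card ↥(Subgroup.zpowers ((g ^ e : ↥A0) : G)) = d := by
    rw [Nat.card_zpowers, hho']
  have hM1ne : Subgroup.zpowers ((g ^ e : ↥A0) : G) ≠ ⊥ := by
    intro hbot
    rw [hbot, Subgroup.card_bot] at hM1card
    omega
  obtain ⟨x, hx⟩ := hC (Subgroup.zpowers ((g ^ e : ↥A0) : G)) M inferInstance hMc hM1card hMd
  refine ⟨A0.map (MulAut.conj x).toMonoidHom, ?_, ?_, ?_⟩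
  · exact isCyclic_of_surjective
      (Subgroup.equivMapOfInjective A0 (MulAut.conj x).toMonoidHom (MulAut.conj x).injective)
      (MulEquiv.surjective _)
  · rw [Subgroup.card_map_of_injective (MulAut.conj x).injective, hA0a]
  · rw [hx, ← Subgroup.map_equiv_normalizer_eq, ← Subgroup.map_equiv_normalizer_eq,
      hA0n _ hM1le hM1ne]

end Cfsg.Agent.Lib.Helper29.RSNCONJ
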