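import Mathlib
import Cfsg.Agent.Lib.Helper23.S79Stmt

/-!
# S1379 piece COVER (second seat, helper29)

Every `g ≠ 1` lies in some `Ñ` or in some `Zhat`: assembly of `Split`, `CaseIn`, `CaseOut`.
-/

set_option autoImplicit false

universe u

namespace Cfsg.Agent.Lib.Helper29.S79COVER

open Cfsg Cfsg.Agent.Lib.Helper23.S79Stmt Cfsg.Agent.Lib.Helper23.S69Stmt
  Cfsg.Agent.Lib.Helper54.S68Stmt

theorem main (hParts : Parts.{u}) (hSplit : Split.{u}) (hKAlt : KAlt.{u}) (hTAlt : TAlt.{u})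
    (hCaseIn : CaseIn.{u}) (hHConj : HConj.{u}) (hTConj : TConj.{u}) (hCaseOut : CaseOut.{u}) :
    Cover.{u} := by
  intro h51 G _ _ hG g hg
  obtain ⟨M, hM, a, b, haσ, ha1, hgab, hcomm, hbσ⟩ := hSplit hParts hG g hg
  by_cases hC : Subgroup.centralizer ({a} : Set G) ≤ M
  · by_cases hb1 : b = 1
    · left
      refine ⟨M, hM, a, ⟨haσ, by simpa using ha1⟩, 1, Subgroup.one_mem _, 1, ?_⟩
      rw [hgab, hb1]
      simp
    · rw [hgab]
      exact hCaseIn hKAlt hTAlt h51 hG M hM a b haσ ha1 hb1 hcomm hbσ hC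
  · left
    rw [hgab]
    exact hCaseOut hParts hHConj hTAlt hTConj hG M hM a b haσ ha1 hcomm hbσ hC

end Cfsg.Agent.Lib.Helper29.S79COVER
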