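import Mathlib
import Cfsg.Agent.Lib.Helper23.S79Stmt

/-!
# S1379 piece PARTS (second seat, helper29)

The `π`-part and the `π'`-part of an element of a finite group.
-/

set_option autoImplicit false

universe u

namespace Cfsg.Agent.Lib.Helper29.S79PARTS

open Cfsg.Agent.Lib.Helper23.S79Stmt

/-- splitting a positive integer into its `π`-part and its `π'`-part -/
theorem split_nat (π : Set ℕ) (n : ℕ) : n ≠ 0 →
    ∃ n₁ n₂ : ℕ, n = n₁ * n₂ ∧ Nat.Coprime n₁ n₂ ∧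
      (∀ p : ℕ, p.Prime → p ∣ n₁ → p ∈ π) ∧ (∀ p : ℕ, p.Prime → p ∣ n₂ → p ∉ π) := by
  classical
  induction n using Nat.recOnPosPrimePosCoprime with
  | prime_pow p k hp hk =>
    intro _
    by_cases hpπ : p ∈ π
    · refine ⟨p ^ k, 1, by simp, by simp, ?_, ?_⟩
      · intro q hq hdvd
        have := (Nat.prime_dvd_prime_iff_eq hq hp).mp (hq.dvd_of_dvd_pow hdvd)
        rw [this]; exact hpπ
      · intro q hq hdvd
        exact absurd (Nat.dvd_one.mp hdvd) hq.ne_one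
    · refine ⟨1, p ^ k, by simp, by simp, ?_, ?_⟩
      · intro q hq hdvd
        exact absurd (Nat.dvd_one.mp hdvd) hq.ne_one
      · intro q hq hdvd
        have := (Nat.prime_dvd_prime_iff_eq hq hp).mp (hq.dvd_of_dvd_pow hdvd)
        rw [this]; exact hpπ
  | zero => intro h; exact absurd rfl h
  | one =>
    intro _
    refine ⟨1, 1, by simp, by simp, ?_, ?_⟩
    · intro q hq hdvd
      exact absurd (Nat.dvd_one.mp hdvd) hq.ne_one
    · intro q hq hdvd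
      exact absurd (Nat.dvd_one.mp hdvd) hq.ne_one
  | coprime a c ha hc hac iha ihc =>
    intro _
    obtain ⟨a₁, a₂, rfl, ha12, ha1, ha2⟩ := iha (by omega)
    obtain ⟨c₁, c₂, rfl, hc12, hc1, hc2⟩ := ihc (by omega)
    have h1 : Nat.Coprime a₁ c₂ :=
      Nat.Coprime.coprime_dvd_left (Dvd.intro _ rfl) (Nat.Coprime.coprime_dvd_right (Dvd.intro_left _ rfl) hac)
    have h2 : Nat.Coprime c₁ a₂ :=
      (Nat.Coprime.coprime_dvd_left (Dvd.intro_left _ rfl)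
        (Nat.Coprime.coprime_dvd_right (Dvd.intro _ rfl) hac)).symm
    refine ⟨a₁ * c₁, a₂ * c₂, by ring, ?_, ?_, ?_⟩
    · exact Nat.Coprime.mul_left (Nat.Coprime.mul_right ha12 h1) (Nat.Coprime.mul_right h2 hc12)
    · intro q hq hdvd
      rcases (Nat.Prime.dvd_mul hq).mp hdvd with h | h
      exacts [ha1 q hq h, hc1 q hq h]
    · intro q hq hdvd
      rcases (Nat.Prime.dvd_mul hq).mp hdvd with h | h
      exacts [ha2 q hq h, hc2 q hq h]

theorem main : Parts.{u} := by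
  intro G _ _ b π
  have hn : orderOf b ≠ 0 := (orderOf_pos b).ne'
  obtain ⟨n₁, n₂, hn12, hcop, h1, h2⟩ := split_nat π (orderOf b) hn
  have hco : IsCoprime (n₁ : ℤ) (n₂ : ℤ) := Nat.isCoprime_iff_coprime.mpr hcop
  obtain ⟨u, v, huv⟩ := hco
  have hb1 : (b ^ (v * (n₂ : ℤ))) ^ n₁ = 1 := by
    rw [← zpow_natCast, ← zpow_mul]
    have : v * (n₂ : ℤ) * (n₁ : ℤ) = ((orderOf b : ℕ) : ℤ) * v := by
      rw [hn12]; push_cast; ring
    rw [this, zpow_mul, zpow_natCast, pow_orderOf_eq_one, one_zpow]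
  have hb2 : (b ^ (u * (n₁ : ℤ))) ^ n₂ = 1 := by
    rw [← zpow_natCast, ← zpow_mul]
    have : u * (n₁ : ℤ) * (n₂ : ℤ) = ((orderOf b : ℕ) : ℤ) * u := by
      rw [hn12]; push_cast; ring
    rw [this, zpow_mul, zpow_natCast, pow_orderOf_eq_one, one_zpow]
  have hd1 : orderOf (b ^ (v * (n₂ : ℤ))) ∣ n₁ := orderOf_dvd_of_pow_eq_one hb1
  have hd2 : orderOf (b ^ (u * (n₁ : ℤ))) ∣ n₂ := orderOf_dvd_of_pow_eq_one hb2
  have hprod : b = b ^ (v * (n₂ : ℤ)) * b ^ (u * (n₁ : ℤ)) := by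
    rw [← zpow_add, show v * (n₂ : ℤ) + u * (n₁ : ℤ) = 1 by linarith, zpow_one]
  have hcomm : b ^ (v * (n₂ : ℤ)) * b ^ (u * (n₁ : ℤ))
      = b ^ (u * (n₁ : ℤ)) * b ^ (v * (n₂ : ℤ)) := by
    rw [← zpow_add, ← zpow_add, add_comm]
  have hlcm : orderOf b ∣ Nat.lcm (orderOf (b ^ (v * (n₂ : ℤ)))) (orderOf (b ^ (u * (n₁ : ℤ)))) := by
    have h := Commute.orderOf_mul_dvd_lcm (show Commute (b ^ (v * (n₂ : ℤ))) (b ^ (u * (n₁ : ℤ))) from hcomm)
    rwa [← hprod] at h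
  have hor : ∀ p : ℕ, p.Prime → p ∣ orderOf b →
      p ∣ orderOf (b ^ (v * (n₂ : ℤ))) ∨ p ∣ orderOf (b ^ (u * (n₁ : ℤ))) := by
    intro p hp hdvd
    exact (Nat.Prime.dvd_mul hp).mp ((hdvd.trans hlcm).trans (Nat.lcm_dvd_mul _ _))
  refine ⟨b ^ (v * (n₂ : ℤ)), b ^ (u * (n₁ : ℤ)), hprod, hcomm,
    Subgroup.zpow_mem_zpowers b _, Subgroup.zpow_mem_zpowers b _, ?_, ?_, ?_, ?_⟩
  · intro p hp hdvd
    exact h1 p hp (hdvd.trans hd1)
  · intro p hp hdvd
    exact h2 p hp (hdvd.trans hd2)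
  · intro p hp hdvd hpπ
    rcases hor p hp hdvd with h | h
    · exact h
    · exact absurd hpπ (h2 p hp (h.trans hd2))
  · intro p hp hdvd hpπ
    rcases hor p hp hdvd with h | h
    · exact absurd (h1 p hp (h.trans hd1)) hpπ
    · exact h

end Cfsg.Agent.Lib.Helper29.S79PARTS
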