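import Mathlib
import Cfsg.Agent.Lib.Helper39.TLStmt
import Cfsg.Agent.Lib.Helper91.Hall

/-!
# S4404 piece HALL (second seat, helper29)

A Hall `{3, p}`-subgroup of a finite solvable group containing a given 3-subgroup and a
conjugate of a given `p`-subgroup.
-/

set_option autoImplicit false

universe u

namespace Cfsg.Agent.Lib.Helper29.TLHALL

open Cfsg Cfsg.Agent.Lib.Helper39.TLStmt

/-- splitting a positive integer into its `π`-part and its `π'`-part -/
theorem split_nat (π : Set ℕ) (n : ℕ) : n ≠ 0 →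
    ∃ n₁ n₂ : ℕ, n = n₁ * n₂ ∧ Nat.Coprime n₁ n₂ ∧
      (∀ p : ℕ, p.Prime → p ∣ n₁ → p ∈ π) ∧ (∀ p : ℕ, p.Prime → p ∣ n₂ → p ∉ π) := by
  classical
  induction n using Nat.recOnPosPrimePosCoprime with
  | prime_pow p k hp hk =>
    intro _
    by_cases hpπ : p ∈ π
    · refine ⟨p ^ k, 1, by simp, by simp, ?_, ?_⟩
      · intro q hq hdvd
        have := (Nat.prime_dvd_prime_iff_eq hq hp).mp (hq.dvd_of_dvd_pow hdvd)
        rw [this]; exact hpπ
      · intro q hq hdvd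
        exact absurd (Nat.dvd_one.mp hdvd) hq.ne_one
    · refine ⟨1, p ^ k, by simp, by simp, ?_, ?_⟩
      · intro q hq hdvd
        exact absurd (Nat.dvd_one.mp hdvd) hq.ne_one
      · intro q hq hdvd
        have := (Nat.prime_dvd_prime_iff_eq hq hp).mp (hq.dvd_of_dvd_pow hdvd)
        rw [this]; exact hpπ
  | zero => intro h; exact absurd rfl h
  | one =>
    intro _
    refine ⟨1, 1, by simp, by simp, ?_, ?_⟩
    · intro q hq hdvd
      exact absurd (Nat.dvd_one.mp hdvd) hq.ne_one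
    · intro q hq hdvd
      exact absurd (Nat.dvd_one.mp hdvd) hq.ne_one
  | coprime a c ha hc hac iha ihc =>
    intro _
    obtain ⟨a₁, a₂, rfl, ha12, ha1, ha2⟩ := iha (by omega)
    obtain ⟨c₁, c₂, rfl, hc12, hc1, hc2⟩ := ihc (by omega)
    have h1 : Nat.Coprime a₁ c₂ :=
      Nat.Coprime.coprime_dvd_left (Dvd.intro _ rfl)
        (Nat.Coprime.coprime_dvd_right (Dvd.intro_left _ rfl) hac)
    have h2 : Nat.Coprime c₁ a₂ :=
      (Nat.Coprime.coprime_dvd_left (Dvd.intro_left _ rfl)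
        (Nat.Coprime.coprime_dvd_right (Dvd.intro _ rfl) hac)).symm
    refine ⟨a₁ * c₁, a₂ * c₂, by ring, ?_, ?_, ?_⟩
    · exact Nat.Coprime.mul_left (Nat.Coprime.mul_right ha12 h1) (Nat.Coprime.mul_right h2 hc12)
    · intro q hq hdvd
      rcases (Nat.Prime.dvd_mul hq).mp hdvd with h | h
      exacts [ha1 q hq h, hc1 q hq h]
    · intro q hq hdvd
      rcases (Nat.Prime.dvd_mul hq).mp hdvd with h | h
      exacts [ha2 q hq h, hc2 q hq h]

theorem main : Hall.{u} := by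
  intro S _ _ _ p hp Q E hQ hE
  have : Fact (Nat.Prime 3) := ⟨Nat.prime_three⟩
  have : Fact p.Prime := ⟨hp⟩
  obtain ⟨m, n, hmn, hcop, h1, h2⟩ :=
    split_nat {q : ℕ | q = 3 ∨ q = p} (Nat.card S) Nat.card_pos.ne'
  have h3n : Nat.Coprime 3 n := by
    rw [Nat.Prime.coprime_iff_not_dvd Nat.prime_three]
    intro h
    exact h2 3 Nat.prime_three h (Or.inl rfl)
  have hpn : Nat.Coprime p n := by
    rw [Nat.Prime.coprime_iff_not_dvd hp]
    intro h
    exact h2 p hp h (Or.inr rfl)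
  obtain ⟨k, hk⟩ := hQ.exists_card_eq
  obtain ⟨j, hj⟩ := hE.exists_card_eq
  obtain ⟨H, hH, hQH⟩ := Cfsg.Agent.Lib.Helper91.Hall.hall_contain m n hmn hcop Q
    (by rw [hk]; exact Nat.Coprime.pow_left k h3n)
  obtain ⟨H', hH', hEH'⟩ := Cfsg.Agent.Lib.Helper91.Hall.hall_contain m n hmn hcop E
    (by rw [hj]; exact Nat.Coprime.pow_left j hpn)
  obtain ⟨g, hg⟩ := Cfsg.Agent.Lib.Helper91.Hall.hall_conj m n hmn hcop H' H hH' hH
  refine ⟨H, ?_, hQH, g, ?_⟩
  · intro q hq hdvd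
    rw [hH] at hdvd
    exact h1 q hq hdvd
  · intro x hx
    obtain ⟨e, he, rfl⟩ := Subgroup.mem_map.mp hx
    rw [← hg, Cfsg.Agent.Lib.Helper91.Hall.mem_conj_smul]
    have : g⁻¹ * ((MulAut.conj g).toMonoidHom e) * g = e := by
      simp [MulAut.conj_apply, mul_assoc]
    rw [this]
    exact hEH' he

end Cfsg.Agent.Lib.Helper29.TLHALL
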